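import Cfsg.Agent.H495.RatB.ONChar
import Cfsg.Agent.H315.RatB.ON

/-!
# S4857, the sporadic row `O'N` (helper495)

`p = 5, 11, 31`: the rational characters of degrees 26752 and 10944; the centralizers of the elements of prime order
`≠ p` are not divisible by `p`.
-/

set_option autoImplicit false

namespace Cfsg.Agent.H495.RatB.ON

open Cfsg Subgroup Cfsg.Agent.H493.RatB
open Cfsg.Spor (ON)
open Cfsg.Agent.KFacts.ON.Cent (finite_ON)
open Cfsg.Agent.H474.ONC
open Cfsg.Agent.H315.RatB.ON

universe u

/-- `q = 11, 31` does not divide the order of the centralizer of an element of order 7 -/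
theorem not_seven {q m : ℕ} (hq : q.Prime) (hm : ∀ z : ON, orderOf z = q → Nat.card (centralizer ({z} : Set ON)) = m)
    (h7 : ¬ 7 ∣ m) {y : ON} (hy : orderOf y = 7) : ¬ q ∣ Nat.card (centralizer ({y} : Set ON)) := by
  have hfin := finite_ON
  intro h
  obtain ⟨z, hz, hzy⟩ := exists_comm (x := y) hq h
  have h1 : y ∈ centralizer ({z} : Set ON) := mem_centralizer_singleton_iff.2 hzy.symm
  have h2 := orderOf_dvd_natCard (⟨y, h1⟩ : centralizer ({z} : Set ON))
  rw [orderOf_mk, hy, hm z hz] at h2
  exact h7 h2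

theorem witR_model {p : ℕ} (hp : p = 11 ∨ p = 31) : WitR p ON := by
  have hfin := finite_ON
  obtain ⟨χ, h1, h2, h3⟩ := irr_10944
  have hdeg : charDegree χ = 10944 := Blocks.Basic.charDegree_of_eq h3
  have hne : χ ≠ fun _ => 1 := by
    intro h
    rw [h] at h3
    norm_num at h3
  have key : ∀ y : ON, (orderOf y).Prime → orderOf y = 2 ∨ orderOf y = 3 ∨ orderOf y = 5 ∨ orderOf y = 7 ∨
      orderOf y = 11 ∨ orderOf y = 19 ∨ orderOf y = 31 := fun y hy =>
    H680.PBON.cases hy (by rw [← card_ON]; exact orderOf_dvd_natCard y)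
  rcases hp with rfl | rfl
  · have : Fact (Nat.Prime 11) := ⟨by norm_num⟩
    refine witR_of_card (a := 1) (by rw [card_ON]; norm_num) (fun y hy h => ?_) ⟨χ, h1⟩ hne
      (by show ¬ 11 ∣ charDegree χ; rw [hdeg]; norm_num) h2
    rw [pow_one]
    rcases key y hy with h' | h' | h' | h' | h' | h' | h'
    · rw [card_cent_two h']; norm_num
    · rw [card_cent_three h']; norm_num
    · rw [card_cent_five h']; norm_num
    · exact not_seven (by norm_num) (fun z hz => card_cent_eleven hz) (by norm_num) h'
    · exact absurd h' h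
    · rw [H680.ONThirtyOne.card_cent_nineteen h']; norm_num
    · rw [H680.ONThirtyOne.card_cent h']; norm_num
  · have : Fact (Nat.Prime 31) := ⟨by norm_num⟩
    refine witR_of_card (a := 1) (by rw [card_ON]; norm_num) (fun y hy h => ?_) ⟨χ, h1⟩ hne
      (by show ¬ 31 ∣ charDegree χ; rw [hdeg]; norm_num) h2
    rw [pow_one]
    rcases key y hy with h' | h' | h' | h' | h' | h' | h'
    · rw [card_cent_two h']; norm_num
    · rw [card_cent_three h']; norm_num
    · rw [card_cent_five h']; norm_num
    · exact not_seven (by norm_num) (fun z hz => H680.ONThirtyOne.card_cent hz) (by norm_num) h'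
    · rw [card_cent_eleven h']; norm_num
    · rw [H680.ONThirtyOne.card_cent_nineteen h']; norm_num
    · exact absurd h' h

theorem witR_on {S : Type u} [Group S] (h : Spor.IsoON S) {p : ℕ} (hp : p = 11 ∨ p = 31) : WitR p S := by
  obtain ⟨e⟩ := h
  have hfin := finite_ON
  have : Finite S := Finite.of_equiv _ e.symm.toEquiv
  have : Fact p.Prime := ⟨by rcases hp with rfl | rfl <;> norm_num⟩
  exact (witR_model hp).congr e

/-- **`p = 11`** -/
theorem witR_eleven {S : Type u} [Group S] (h : Spor.IsoON S) : WitR 11 S := witR_on h (Or.inl rfl)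

/-- **`p = 31`** -/
theorem witR_thirtyone {S : Type u} [Group S] (h : Spor.IsoON S) : WitR 31 S := witR_on h (Or.inr rfl)

end Cfsg.Agent.H495.RatB.ON
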