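import Cfsg.Agent.H495.RatB.NC
import Cfsg.Agent.H713.B0R.Tool
import Cfsg.Agent.H657.Frob.Main
import Cfsg.Agent.H494.B0R.Inst
import Cfsg.Agent.H315.RatB.ON

/-!
# S4857, `O'N`, `p = 19` (helper495): the pair `(5, 19)`
-/

set_option autoImplicit false

open Subgroup

namespace Cfsg.Agent.H495.RatB.ON

open Cfsg Cfsg.Agent.H145.BR Cfsg.Agent.H713.B0R Cfsg.Agent.H602.B0R
open Cfsg.Spor (ON)
open Cfsg.Agent.KFacts.ON.Cent (finite_ON)
open Cfsg.Agent.H474.ONC

universe u

/-- transport of the order of centralizers -/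
theorem card_cent_congr {G : Type*} [Group G] {H : Type*} [Group H] (e : G ≃* H) (x : G) :
    Nat.card (centralizer ({x} : Set G)) = Nat.card (centralizer ({e x} : Set H)) := by
  have h : (centralizer ({x} : Set G)).map (e : G →* H) = centralizer ({e x} : Set H) := by
    ext y
    rw [mem_map, mem_centralizer_singleton_iff]
    constructor
    · rintro ⟨z, hz, rfl⟩
      rw [mem_centralizer_singleton_iff] at hz
      show e z * e x = e x * e z
      rw [← map_mul, ← map_mul, hz]
    · intro hy
      refine ⟨e.symm y, ?_, e.apply_symm_apply y⟩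
      rw [mem_centralizer_singleton_iff]
      apply e.injective
      rw [map_mul, map_mul, e.apply_symm_apply, hy]
  rw [← h]
  exact Nat.card_congr ((centralizer ({x} : Set G)).equivMapOfInjective (e : G →* H) e.injective).toEquiv

theorem rowZ_pair {S : Type u} [Group S] (h : Spor.IsoON S) : RowZ 5 S ∧ RowZ 19 S := by
  have hfin' := finite_ON
  obtain ⟨e⟩ := h
  have hfin : Finite S := Finite.of_equiv _ e.symm.toEquiv
  have hcard : Nat.card S = 2 ^ 9 * 3 ^ 4 * 5 * 7 ^ 3 * 11 * 19 * 31 := by
    rw [Nat.card_congr e.toEquiv, card_ON]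
    norm_num
  have h5 : Fact (Nat.Prime 5) := ⟨by norm_num⟩
  have h19 : Fact (Nat.Prime 19) := ⟨by norm_num⟩
  have f5 : FrobAt 5 S :=
    fun M hM => H657.Frob.frob hM (by norm_num) (by rw [hcard]; norm_num) (by rw [hcard]; norm_num)
  have f19 : FrobAt 19 S :=
    fun M hM => H657.Frob.frob hM (by norm_num) (by rw [hcard]; norm_num) (by rw [hcard]; norm_num)
  have c5 : ∀ y : S, orderOf y = 5 → Nat.card (centralizer ({y} : Set S)) = 180 := fun y hy => by
    rw [card_cent_congr e y]
    exact card_cent_five (by rw [MulEquiv.orderOf_eq, hy])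
  have c19 : ∀ y : S, orderOf y = 19 → Nat.card (centralizer ({y} : Set S)) = 19 := fun y hy => by
    rw [card_cent_congr e y]
    exact H680.ONThirtyOne.card_cent_nineteen (by rw [MulEquiv.orderOf_eq, hy])
  have c31 : ∀ y : S, orderOf y = 31 → Nat.card (centralizer ({y} : Set S)) = 31 := fun y hy => by
    rw [card_cent_congr e y]
    exact H680.ONThirtyOne.card_cent (by rw [MulEquiv.orderOf_eq, hy])
  -- elements of order divisible by `r` and larger than the centralizer
  have key : ∀ {r k : ℕ}, 0 < k → (∀ y : S, orderOf y = r → Nat.card (centralizer ({y} : Set S)) = r) → 0 < r →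
      ∀ g : S, orderOf g = r * k → k = 1 := by
    intro r k hk hr hr0 g hg
    have h1 : orderOf (g ^ k) = r := by
      rw [orderOf_pow_of_dvd hk.ne' (by rw [hg]; exact Dvd.intro_left _ rfl), hg, Nat.mul_div_cancel _ hk]
    have h3 : g ∈ centralizer ({g ^ k} : Set S) := mem_centralizer_singleton_iff.2 ((Commute.refl g).pow_right k)
    have h4 := (Subgroup.orderOf_dvd_natCard _ h3)
    rw [hr _ h1, hg] at h4
    have h5 := Nat.le_of_dvd hr0 h4
    have h6 : r * k ≤ r * 1 := by rwa [mul_one]
    have h7 := Nat.le_of_mul_le_mul_left h6 hr0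
    omega
  refine rowZ_of_pair (by norm_num) (by norm_num) (by norm_num) (by norm_num) (by norm_num)
    (by rw [hcard]; norm_num) (by rw [hcard]; norm_num) (by rw [hcard]; norm_num) (by rw [hcard]; norm_num)
    (fun P => ?_) (fun Q => ?_) (fun g hg => ?_) f5 f19 (H494.B0R.ON_5_19 hcard ?_)
  · -- the inertial index is 4
    left
    have hP : Nat.card P = 5 := H852.RatB.card_sylow_of_not_sq (by rw [hcard]; norm_num) (by rw [hcard]; norm_num) P
    rw [relIndex_eq P hP c5, hcard]
    norm_num
  · -- the inertial index is 6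
    right
    have hQ : Nat.card Q = 19 := H852.RatB.card_sylow_of_not_sq (by rw [hcard]; norm_num) (by rw [hcard]; norm_num) Q
    rw [relIndex_eq Q hQ c19, hcard]
    decide
  · have := key (r := 19) (k := 5) (by norm_num) c19 (by norm_num) g (by rw [hg])
    norm_num at this
  · intro g d hd hdg
    rw [List.mem_singleton] at hd
    subst hd
    obtain ⟨m, hm⟩ := hdg
    have hm0 : 0 < m := by
      rcases Nat.eq_zero_or_pos m with h0 | h0
      · rw [h0, mul_zero] at hm
        exact absurd hm (orderOf_pos g).ne'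
      · exact h0
    have := key (r := 31) (k := 7 * 9 * m) (by omega) c31 (by norm_num) g (by rw [hm]; ring)
    omega

/-- **`p = 19`** -/
theorem rowZ_nineteen {S : Type u} [Group S] (h : Spor.IsoON S) : RowZ 19 S := (rowZ_pair h).2

/-- **`p = 5`** -/
theorem rowZ_five {S : Type u} [Group S] (h : Spor.IsoON S) : RowZ 5 S := (rowZ_pair h).1

end Cfsg.Agent.H495.RatB.ON
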