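import Cfsg.Agent.H493.RatB.HS
import Cfsg.Agent.H690.Spor.Ru

/-!
# S4857, the sporadic row `Ru` (helper495)

`p = 5, 7, 29` divide the degree `4060 = 1 + 1755 + 2304` of the rank three action.
-/

set_option autoImplicit false

namespace Cfsg.Agent.H495.RatB.Ru

open Cfsg Subgroup Cfsg.Agent.H493.RatB Cfsg.Agent.SporadicB

universe u

theorem witR_model {p : ℕ} [Fact p.Prime] (hp : p ∣ 4060) : WitR p RuOrder.H := by
  have hfin : Finite RuOrder.H := Cfsg.Agent.H690.Spor.Ru.instFiniteH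
  obtain ⟨R, hR⟩ := H690.Spor.Ru.r3
  exact witR_of_r3 hR hp (by decide +kernel)

theorem witR_ru {S : Type u} [Group S] (h : Spor.IsoRu S) {p : ℕ} [Fact p.Prime] (hp : p ∣ 4060) : WitR p S := by
  obtain ⟨e⟩ := h
  have hfin : Finite RuOrder.H := Cfsg.Agent.H690.Spor.Ru.instFiniteH
  have e' := e.trans Cfsg.Agent.RuLat.Main.equiv
  have : Finite S := Finite.of_equiv _ e'.symm.toEquiv
  exact (witR_model hp).congr e'

/-- **`p = 5`** -/
theorem witR_five {S : Type u} [Group S] (h : Spor.IsoRu S) : WitR 5 S := by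
  have : Fact (Nat.Prime 5) := ⟨by norm_num⟩
  exact witR_ru h (by norm_num)

/-- **`p = 7`** -/
theorem witR_seven {S : Type u} [Group S] (h : Spor.IsoRu S) : WitR 7 S := by
  have : Fact (Nat.Prime 7) := ⟨by norm_num⟩
  exact witR_ru h (by norm_num)

/-- **`p = 29`** -/
theorem witR_twentynine {S : Type u} [Group S] (h : Spor.IsoRu S) : WitR 29 S := by
  have : Fact (Nat.Prime 29) := ⟨by norm_num⟩
  exact witR_ru h (by norm_num)

end Cfsg.Agent.H495.RatB.Ru
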